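import Mathlib

/-!
# B&G Appendix C, Lemma C.3: the iteration `E → E⁻¹` (helper1)

`inv_closed_of_twist`: if `ψ` identifies `U` with the `n`-th roots of unity of a field `F`, `t`
normalizes `U`, `t ^ p = 1` with `gcd(6, p) = 1`, and for every `u ∈ U` with `(2 - ψ u) ^ n = 1`
one has `(2 * ψ (t⁻³ u t³) - 1) ^ n = 1`, then the set `{a | a ^ n = 1 ∧ (2 - a) ^ n = 1}` is
closed under inversion.
-/

set_option autoImplicit false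

namespace Cfsg.Agent.Lib.Helper1.AppC

theorem inv_closed_of_twist {G : Type*} [Group G] {F : Type*} [Field F] (n p : ℕ)
    (U : Subgroup G) (ψ : G → F) (t : G)
    (hψmul : ∀ u ∈ U, ∀ v ∈ U, ψ (u * v) = ψ u * ψ v) (hψinj : Set.InjOn ψ U)
    (hψpow : ∀ u ∈ U, ψ u ^ n = 1) (hψsurj : ∀ d : F, d ^ n = 1 → ∃ u ∈ U, ψ u = d)
    (htU : ∀ k : ℤ, ∀ u ∈ U, t ^ k * u * t ^ (-k) ∈ U) (htp : t ^ p = 1)
    (hp6 : Nat.Coprime 6 p)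
    (hmain : ∀ u ∈ U, (2 - ψ u) ^ n = 1 →
      (2 * ψ (t ^ (-3 : ℤ) * u * t ^ (3 : ℤ)) - 1) ^ n = 1) :
    ∀ a : F, a ^ n = 1 → (2 - a) ^ n = 1 → (2 - a⁻¹) ^ n = 1 := by
  have _hinj := hψinj
  intro a ha ha2
  rcases Nat.eq_zero_or_pos n with hn0 | hnpos
  · subst hn0
    simp
  have hn : n ≠ 0 := hnpos.ne'
  -- `ψ` never vanishes on `U`
  have hne : ∀ u ∈ U, ψ u ≠ 0 := by
    intro u hu h0
    have h1 := hψpow u hu
    rw [h0, zero_pow hn] at h1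
    exact zero_ne_one h1
  have hψ1 : ψ 1 = 1 := by
    have h1 := hψmul 1 U.one_mem 1 U.one_mem
    rw [mul_one] at h1
    have h2 := hne 1 U.one_mem
    field_simp at h1
    exact h1.symm
  have hψinv : ∀ u ∈ U, ψ u⁻¹ = (ψ u)⁻¹ := by
    intro u hu
    have h1 := hψmul u hu u⁻¹ (U.inv_mem hu)
    rw [mul_inv_cancel, hψ1] at h1
    exact eq_inv_of_mul_eq_one_right h1.symm
  -- Step A
  have hA : ∀ u ∈ U, (2 - ψ u) ^ n = 1 →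
      (t ^ (-3 : ℤ) * u * t ^ (3 : ℤ))⁻¹ ∈ U ∧
        (2 - ψ (t ^ (-3 : ℤ) * u * t ^ (3 : ℤ))⁻¹) ^ n = 1 := by
    intro u hu hE
    have hwU : t ^ (-3 : ℤ) * u * t ^ (3 : ℤ) ∈ U := by
      have := htU (-3) u hu
      rwa [neg_neg] at this
    refine ⟨U.inv_mem hwU, ?_⟩
    have h1 := hmain u hu hE
    have h2 := hψpow _ hwU
    have h3 := hne _ hwU
    rw [hψinv _ hwU]
    have h4 : 2 - (ψ (t ^ (-3 : ℤ) * u * t ^ (3 : ℤ)))⁻¹ =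
        (2 * ψ (t ^ (-3 : ℤ) * u * t ^ (3 : ℤ)) - 1) *
          (ψ (t ^ (-3 : ℤ) * u * t ^ (3 : ℤ)))⁻¹ := by
      field_simp
    rw [h4, mul_pow, h1, inv_pow, h2]
    simp
  -- Step B
  have hB : ∀ u ∈ U, (2 - ψ u) ^ n = 1 →
      t ^ (-6 : ℤ) * u * t ^ (6 : ℤ) ∈ U ∧ (2 - ψ (t ^ (-6 : ℤ) * u * t ^ (6 : ℤ))) ^ n = 1 := by
    intro u hu hE
    obtain ⟨h1, h2⟩ := hA u hu hE
    obtain ⟨h3, h4⟩ := hA _ h1 h2
    have e : (t ^ (-3 : ℤ) * (t ^ (-3 : ℤ) * u * t ^ (3 : ℤ))⁻¹ * t ^ (3 : ℤ))⁻¹ =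
        t ^ (-6 : ℤ) * u * t ^ (6 : ℤ) := by
      have e1 : (t ^ (-6 : ℤ) : G) = t ^ (-3 : ℤ) * t ^ (-3 : ℤ) := by
        rw [← zpow_add]
        norm_num
      have e2 : (t ^ (6 : ℤ) : G) = t ^ (3 : ℤ) * t ^ (3 : ℤ) := by
        rw [← zpow_add]
        norm_num
      rw [e1, e2]
      simp only [mul_inv_rev, inv_inv, zpow_neg]
      group
    rw [e] at h3 h4
    exact ⟨h3, h4⟩
  -- Step C
  have hC : ∀ j : ℕ, ∀ u ∈ U, (2 - ψ u) ^ n = 1 →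
      t ^ (-(6 * (j : ℤ))) * u * t ^ (6 * (j : ℤ)) ∈ U ∧
        (2 - ψ (t ^ (-(6 * (j : ℤ))) * u * t ^ (6 * (j : ℤ)))) ^ n = 1 := by
    intro j
    induction j with
    | zero =>
      intro u hu hE
      simpa using ⟨hu, hE⟩
    | succ j ih =>
      intro u hu hE
      obtain ⟨h1, h2⟩ := ih u hu hE
      obtain ⟨h3, h4⟩ := hB _ h1 h2
      have e : t ^ (-6 : ℤ) * (t ^ (-(6 * (j : ℤ))) * u * t ^ (6 * (j : ℤ))) * t ^ (6 : ℤ) =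
          t ^ (-(6 * ((j + 1 : ℕ) : ℤ))) * u * t ^ (6 * ((j + 1 : ℕ) : ℤ)) := by
        have a1 : (-(6 * ((j + 1 : ℕ) : ℤ))) = -6 + -(6 * (j : ℤ)) := by
          push_cast
          ring
        have a2 : (6 * ((j + 1 : ℕ) : ℤ)) = 6 * (j : ℤ) + 6 := by
          push_cast
          ring
        have e1 : (t ^ (-(6 * ((j + 1 : ℕ) : ℤ))) : G) = t ^ (-6 : ℤ) * t ^ (-(6 * (j : ℤ))) := by
          rw [a1, zpow_add]
        have e2 : (t ^ (6 * ((j + 1 : ℕ) : ℤ)) : G) = t ^ (6 * (j : ℤ)) * t ^ (6 : ℤ) := by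
          rw [a2, zpow_add]
        rw [e1, e2]
        simp only [mul_assoc]
      rw [e] at h3 h4
      exact ⟨h3, h4⟩
  -- the exponent
  have hp0 : p ≠ 0 := by
    rintro rfl
    simp at hp6
  have : NeZero p := ⟨hp0⟩
  have h6 : IsUnit ((6 : ℕ) : ZMod p) := (ZMod.isUnit_iff_coprime 6 p).2 hp6
  obtain ⟨c, hc⟩ := h6.exists_right_inv
  obtain ⟨j, hj⟩ : ∃ j : ℕ, p ∣ 6 * j + 3 := by
    refine ⟨((-3 : ZMod p) * c).val, ?_⟩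
    rw [← ZMod.natCast_eq_zero_iff]
    push_cast
    rw [ZMod.natCast_zmod_val]
    have hc' : (6 : ZMod p) * c = 1 := by exact_mod_cast hc
    calc (6 : ZMod p) * (-3 * c) + 3 = -3 * ((6 : ZMod p) * c) + 3 := by ring
      _ = 0 := by rw [hc']; ring
  have htj : t ^ (6 * j + 3) = 1 := by
    obtain ⟨d, hd⟩ := hj
    rw [hd, pow_mul, htp, one_pow]
  have htj1 : (t ^ (-(6 * (j : ℤ))) : G) = t ^ (3 : ℤ) := by
    have h1 : (t ^ ((6 * j + 3 : ℕ) : ℤ) : G) = 1 := by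
      rw [zpow_natCast]
      exact htj
    have h2 : (-(6 * (j : ℤ))) = 3 - ((6 * j + 3 : ℕ) : ℤ) := by
      push_cast
      ring
    rw [h2, zpow_sub, h1, inv_one, mul_one]
  have htj2 : (t ^ (6 * (j : ℤ)) : G) = t ^ (-3 : ℤ) := by
    have h1 : (t ^ (6 * (j : ℤ)) : G) = (t ^ (-(6 * (j : ℤ))))⁻¹ := by
      rw [zpow_neg, inv_inv]
    rw [h1, htj1, zpow_neg]
  -- conclusion
  obtain ⟨u, hu, rfl⟩ := hψsurj a ha
  obtain ⟨h1, h2⟩ := hC j u hu ha2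
  rw [htj1, htj2] at h1 h2
  obtain ⟨h3, h4⟩ := hA _ h1 h2
  have e : (t ^ (-3 : ℤ) * (t ^ (3 : ℤ) * u * t ^ (-3 : ℤ)) * t ^ (3 : ℤ))⁻¹ = u⁻¹ := by
    simp only [zpow_neg]
    group
  rw [e, hψinv u hu] at h4
  exact h4

end Cfsg.Agent.Lib.Helper1.AppC
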